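import Mathlib.LinearAlgebra.Multilinear.Basic

/-!
# A telescoping identity for multilinear maps

For a multilinear map `φ` and vectors `w_{j+1} = w_j + α • y_j`, the sums
`Σ_i Σ_j φ(w_{<i,j+1}, y_{i,j}, w_{>i,j})` and `Σ_i Σ_j φ(w_{<i,n}, y_{i,j}, w_{>i,0})` agree
(formally both are `(φ(w_n) - φ(w_0))/α`, but no division is needed).
-/

set_option autoImplicit false

namespace Groth.Agent.Lib.Helper24.MultiTele

open Function

variable {A : Type*} [CommRing A] {r : ℕ} {M : Fin r → Type*} {N : Type*}
  [∀ i, AddCommGroup (M i)] [∀ i, Module A (M i)] [AddCommGroup N] [Module A N]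

/-- the mixed vector `(b_{<i}, d_i, a_{>i})`. -/
def mix (b d a : ∀ i, M i) (i : Fin r) : ∀ k, M k :=
  fun k => if k < i then b k else if k = i then d k else a k

/-- the doubly mixed vector `(c_{<i}, Y_i, b_{(i,k)}, y_k, a_{>k})`. -/
def mix2 (c Y b y a : ∀ i, M i) (i k : Fin r) : ∀ j, M j :=
  fun j => if j < i then c j else if j = i then Y j else if j < k then b j
    else if j = k then y j else a j

variable (φ : MultilinearMap A M N)

/-- `D b d a = Σ_i φ(b_{<i}, d_i, a_{>i})`. -/
def D (b d a : ∀ i, M i) : N := ∑ i, φ (mix b d a i)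

/-- `S c Y b y a = Σ_{i<k} φ(c_{<i}, Y_i, b_{(i,k)}, y_k, a_{>k})`. -/
def S (c Y b y a : ∀ i, M i) : N :=
  ∑ i, ∑ k, if i < k then φ (mix2 c Y b y a i k) else 0

theorem tele (b a : ∀ i, M i) : φ b - φ a = D φ b (b - a) a := by
  have h := φ.map_sub_map_piecewise b a Finset.univ
  rw [Finset.piecewise_univ] at h
  rw [h]
  unfold D
  apply Finset.sum_congr rfl
  intro i _
  congr 1
  funext j
  unfold mix
  simp only [Finset.mem_univ, forall_const, Pi.sub_apply]
  by_cases h1 : j < i
  · rw [if_pos h1, if_pos h1]
  · rw [if_neg h1, if_neg h1]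
    by_cases h2 : j = i
    · subst h2; simp
    · rw [if_neg h2, if_neg (fun h => h2 h.symm)]

theorem mix_eq_update (b d a : ∀ i, M i) (i : Fin r) :
    mix b d a i = update (mix b 0 a i) i (d i) := by
  funext k
  by_cases hk : k = i
  · subst hk
    simp [mix]
  · rw [update_of_ne hk]
    simp [mix, hk]

theorem D_add (b d d' a : ∀ i, M i) : D φ b (d + d') a = D φ b d a + D φ b d' a := by
  unfold D
  rw [← Finset.sum_add_distrib]
  apply Finset.sum_congr rfl
  intro i _
  rw [mix_eq_update b (d + d'), mix_eq_update b d, mix_eq_update b d', Pi.add_apply,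
    φ.map_update_add]

theorem D_zero (b a : ∀ i, M i) : D φ b 0 a = 0 := by
  have h := D_add φ b 0 0 a
  rw [add_zero] at h
  exact (add_eq_left.mp h.symm)

theorem D_sum {κ : Type*} (s : Finset κ) (b a : ∀ i, M i) (d : κ → ∀ i, M i) :
    D φ b (∑ j ∈ s, d j) a = ∑ j ∈ s, D φ b (d j) a := by
  classical
  induction s using Finset.induction_on with
  | empty => simp [D_zero]
  | insert x s hx ih => rw [Finset.sum_insert hx, Finset.sum_insert hx, D_add, ih]

theorem mix2_smul_left (α : A) (c Y b y a : ∀ i, M i) {i k : Fin r} (hik : i < k) :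
    φ (mix2 c (α • Y) b y a i k) = α • φ (mix2 c Y b y a i k) := by
  have h1 : mix2 c (α • Y) b y a i k = update (mix2 c Y b y a i k) i (α • Y i) := by
    funext j
    by_cases hj : j = i
    · subst hj
      simp [mix2]
    · rw [update_of_ne hj]
      simp [mix2, hj]
  have h2 : mix2 c Y b y a i k = update (mix2 c Y b y a i k) i (Y i) := by
    funext j
    by_cases hj : j = i
    · subst hj
      simp [mix2]
    · rw [update_of_ne hj]
  rw [h1, φ.map_update_smul, ← h2]

theorem mix2_smul_right (α : A) (c Y b y a : ∀ i, M i) {i k : Fin r} (hik : i < k) :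
    φ (mix2 c Y b (α • y) a i k) = α • φ (mix2 c Y b y a i k) := by
  have hki : ¬ k < i := by omega
  have hki' : k ≠ i := by omega
  have h1 : mix2 c Y b (α • y) a i k = update (mix2 c Y b y a i k) k (α • y k) := by
    funext j
    by_cases hj : j = k
    · subst hj
      simp [mix2, hki, hki']
    · rw [update_of_ne hj]
      simp [mix2, hj]
  have h2 : mix2 c Y b y a i k = update (mix2 c Y b y a i k) k (y k) := by
    funext j
    by_cases hj : j = k
    · subst hj
      simp [mix2, hki, hki']
    · rw [update_of_ne hj]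
  rw [h1, φ.map_update_smul, ← h2]

theorem S_smul_left (α : A) (c Y b y a : ∀ i, M i) :
    S φ c (α • Y) b y a = α • S φ c Y b y a := by
  unfold S
  rw [Finset.smul_sum]
  apply Finset.sum_congr rfl
  intro i _
  rw [Finset.smul_sum]
  apply Finset.sum_congr rfl
  intro k _
  split_ifs with hik
  · exact mix2_smul_left φ α c Y b y a hik
  · rw [smul_zero]

theorem S_smul_right (α : A) (c Y b y a : ∀ i, M i) :
    S φ c Y b (α • y) a = α • S φ c Y b y a := by
  unfold S
  rw [Finset.smul_sum]
  apply Finset.sum_congr rfl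
  intro i _
  rw [Finset.smul_sum]
  apply Finset.sum_congr rfl
  intro k _
  split_ifs with hik
  · exact mix2_smul_right φ α c Y b y a hik
  · rw [smul_zero]

theorem claim1 (c Y b a : ∀ i, M i) : D φ c Y b - D φ c Y a = S φ c Y b (b - a) a := by
  unfold D S
  rw [← Finset.sum_sub_distrib]
  apply Finset.sum_congr rfl
  intro i _
  rw [tele φ (mix c Y b i) (mix c Y a i)]
  unfold D
  apply Finset.sum_congr rfl
  intro k _
  split_ifs with hik
  · congr 1
    funext j
    unfold mix mix2
    simp only [Pi.sub_apply]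
    have hki : ¬ k < i := by omega
    have hki' : k ≠ i := by omega
    by_cases h1 : j < k
    · rw [if_pos h1]
      by_cases h2 : j < i
      · rw [if_pos h2, if_pos h2]
      · rw [if_neg h2, if_neg h2]
        by_cases h3 : j = i
        · rw [if_pos h3, if_pos h3]
        · rw [if_neg h3, if_neg h3, if_pos h1]
    · rw [if_neg h1]
      have h2 : ¬ j < i := by omega
      have h3 : j ≠ i := by omega
      rw [if_neg h2, if_neg h3, if_neg h1]
      by_cases h4 : j = k
      · subst h4
        simp [hki, hki']
      · rw [if_neg h4, if_neg h4, if_neg h2, if_neg h3]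
  · apply φ.map_coord_zero k
    unfold mix
    simp only [Pi.sub_apply, lt_self_iff_false, if_false, if_true]
    by_cases h1 : k < i
    · simp [h1]
    · have h2 : k = i := by omega
      simp [h2]

theorem claim2 (c b y a : ∀ i, M i) : D φ c y a - D φ b y a = S φ c (c - b) b y a := by
  unfold D S
  rw [← Finset.sum_sub_distrib, Finset.sum_comm]
  apply Finset.sum_congr rfl
  intro i _
  rw [tele φ (mix c y a i) (mix b y a i)]
  unfold D
  apply Finset.sum_congr rfl
  intro k _
  split_ifs with hki
  · congr 1
    funext j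
    unfold mix mix2
    simp only [Pi.sub_apply]
    have hik : ¬ i < k := by omega
    have hik' : i ≠ k := by omega
    by_cases h1 : j < k
    · have h2 : j < i := by omega
      rw [if_pos h1, if_pos h2, if_pos h1]
    · rw [if_neg h1, if_neg h1]
      by_cases h4 : j = k
      · subst h4
        simp [hki]
      · rw [if_neg h4, if_neg h4]
  · apply φ.map_coord_zero k
    unfold mix
    simp only [Pi.sub_apply, lt_self_iff_false, if_false, if_true]
    by_cases h1 : k = i
    · simp [h1]
    · have h2 : ¬ k < i := hki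
      simp [h1, h2]

/-- the three level identity -/
theorem three (α : A) (a b c y Y : ∀ i, M i) (hb : b = a + α • y) (hc : c = b + α • Y) :
    D φ b y a + D φ c Y b = D φ c (y + Y) a := by
  have h1 := claim1 φ c Y b a
  have h2 := claim2 φ c b y a
  have e1 : b - a = α • y := by rw [hb]; abel
  have e2 : c - b = α • Y := by rw [hc]; abel
  rw [e1, S_smul_right] at h1
  rw [e2, S_smul_left] at h2
  rw [D_add]
  have h3 : D φ c Y b - D φ c Y a = D φ c y a - D φ b y a := by rw [h1, h2]
  have h4 : D φ c Y b = D φ c Y a + (D φ c y a - D φ b y a) := by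
    rw [← h3]; abel
  rw [h4]
  abel

theorem w_eq (α : A) (y w : ℕ → ∀ i, M i) (n : ℕ)
    (hw : ∀ j < n, w (j + 1) = w j + α • y j) :
    w n = w 0 + α • ∑ j ∈ Finset.range n, y j := by
  induction n with
  | zero => simp
  | succ n ih =>
    rw [hw n (Nat.lt_succ_self n), ih (fun j hj => hw j (Nat.lt_succ_of_lt hj)),
      Finset.sum_range_succ, smul_add, add_assoc]

theorem main' (α : A) (y w : ℕ → ∀ i, M i) (n : ℕ)
    (hw : ∀ j < n, w (j + 1) = w j + α • y j) :
    ∑ j ∈ Finset.range n, D φ (w (j + 1)) (y j) (w j) =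
      D φ (w n) (∑ j ∈ Finset.range n, y j) (w 0) := by
  induction n with
  | zero => simp [D_zero]
  | succ n ih =>
    have hw' : ∀ j < n, w (j + 1) = w j + α • y j := fun j hj => hw j (Nat.lt_succ_of_lt hj)
    rw [Finset.sum_range_succ, ih hw', Finset.sum_range_succ]
    exact three φ α (w 0) (w n) (w (n + 1)) _ (y n) (w_eq α y w n hw') (hw n (Nat.lt_succ_self n))

theorem main (α : A) (n : ℕ) (y w : ∀ i, ℕ → M i)
    (hw : ∀ i, ∀ j < n, w i (j + 1) = w i j + α • y i j) :
    (∑ i : Fin r, ∑ j ∈ Finset.range n,
        φ (fun k => if k < i then w k (j + 1) else if k = i then y k j else w k j)) =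
      ∑ i : Fin r, ∑ j ∈ Finset.range n,
        φ (fun k => if k < i then w k n else if k = i then y k j else w k 0) := by
  have h := main' φ α (fun j i => y i j) (fun j i => w i j) n (by
    intro j hj
    funext i
    exact hw i j hj)
  rw [D_sum] at h
  rw [Finset.sum_comm]
  rw [Finset.sum_comm (s := Finset.univ)]
  exact h

end Groth.Agent.Lib.Helper24.MultiTele
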